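import Cfsg.Agent.Lib.Transfer.Fusion
import Cfsg.Agent.Lib.Basics.Schmidt

/-!
Left-normed commutator values, and normal complements from the Frobenius criterion.
-/

set_option autoImplicit false
set_option linter.style.haveILetI false

namespace Cfsg.Agent.ValueSimple

open Subgroup
open scoped commutatorElement

variable {G : Type*} [Group G]

/-- The values of the left-normed commutator word in `k + 1` variables. -/
def Val : ℕ → G → Prop
  | 0, _ => True
  | k + 1, x => ∃ a b : G, Val k a ∧ ⁅a, b⁆ = x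

/-- The iterated commutator `[v, g, …, g]`. -/
def it (g : G) : ℕ → G → G
  | 0, v => v
  | k + 1, v => ⁅it g k v, g⁆

theorem val_it (g : G) : ∀ (k : ℕ) (v : G), Val k (it g k v)
  | 0, _ => trivial
  | k + 1, v => ⟨_, g, val_it g k v, rfl⟩

theorem val_antitone : ∀ (k : ℕ) (x : G), Val (k + 1) x → Val k x
  | 0, _, _ => trivial
  | k + 1, _, ⟨a, b, ha, hab⟩ => ⟨a, b, val_antitone k a ha, hab⟩

theorem val_comm {k : ℕ} {x : G} (h : Val k x) (a : G) : Val k ⁅x, a⁆ :=
  val_antitone k _ ⟨x, a, h, rfl⟩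

theorem val_map {H : Type*} [Group H] (f : G →* H) : ∀ (k : ℕ) (x : G), Val k x → Val k (f x)
  | 0, _, _ => trivial
  | k + 1, _, ⟨a, b, ha, hab⟩ => ⟨f a, f b, val_map f k a ha, by rw [← map_commutatorElement, hab]⟩

theorem val_conj (g : G) {k : ℕ} {x : G} (h : Val k x) : Val k (g * x * g⁻¹) :=
  val_map (MulAut.conj g).toMonoidHom k x h

theorem val_lift {H : Type*} [Group H] (f : G →* H) (hf : Function.Surjective f) :
    ∀ (k : ℕ) (x : H), Val k x → ∃ y, Val k y ∧ f y = x
  | 0, x, _ => let ⟨y, hy⟩ := hf x; ⟨y, trivial, hy⟩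
  | k + 1, _, ⟨a, b, ha, hab⟩ => by
    obtain ⟨a', ha', rfl⟩ := val_lift f hf k a ha
    obtain ⟨b', rfl⟩ := hf b
    exact ⟨⁅a', b'⁆, ⟨a', b', ha', rfl⟩, by rw [map_commutatorElement, hab]⟩

theorem val_mem_lcs : ∀ (k : ℕ) (x : G), Val k x → x ∈ (⊤ : Subgroup G).lowerCentralSeries k
  | 0, x, _ => by rw [Subgroup.lowerCentralSeries_zero]; exact mem_top x
  | k + 1, _, ⟨a, b, ha, hab⟩ => by
    rw [Subgroup.lowerCentralSeries_succ, ← hab]
    exact commutator_mem_commutator (val_mem_lcs k a ha) (mem_top b)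

theorem lcs_le_of_val : ∀ (k : ℕ) (N : Subgroup G) [N.Normal],
    (∀ x, Val k x → x ∈ N) → (⊤ : Subgroup G).lowerCentralSeries k ≤ N
  | 0, N, _, h => fun x _ => h x trivial
  | k + 1, N, _, h => by
    have h1 := lcs_le_of_val k ((center (G ⧸ N)).comap (QuotientGroup.mk' N)) fun x hx => by
      rw [mem_comap, mem_center_iff]
      intro q
      obtain ⟨b, rfl⟩ := QuotientGroup.mk'_surjective N q
      refine (commutatorElement_eq_one_iff_mul_comm.mp ?_).symm
      rw [← map_commutatorElement]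
      exact (QuotientGroup.eq_one_iff _).mpr (h _ ⟨x, b, hx, rfl⟩)
    rw [Subgroup.lowerCentralSeries_succ]
    refine commutator_le.mpr fun a ha b _ => (QuotientGroup.eq_one_iff _).mp ?_
    have h2 := mem_center_iff.mp (h1 ha) (QuotientGroup.mk' N b)
    show QuotientGroup.mk' N ⁅a, b⁆ = 1
    rw [map_commutatorElement]
    exact commutatorElement_eq_one_iff_mul_comm.mpr h2.symm

theorem it_mem {P : Subgroup G} {g v : G} (hg : g ∈ normalizer (P : Set G)) (hv : v ∈ P) :
    ∀ k, it g k v ∈ P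
  | 0 => hv
  | k + 1 => by
    rw [it, commutatorElement_def, mul_assoc, mul_assoc, ← mul_assoc g]
    exact P.mul_mem (it_mem hg hv k) ((mem_normalizer_iff.mp hg _).mp (P.inv_mem (it_mem hg hv k)))

/-- If `[a, g]` commutes with `g` and has coprime order then it is trivial. -/
theorem comm_eq_one {a g : G} (hgf : IsOfFinOrder g) (hc : Commute ⁅a, g⁆ g)
    (hco : (orderOf ⁅a, g⁆).Coprime (orderOf g)) : ⁅a, g⁆ = 1 := by
  have h1 : ⁅a, g⁆ * g = MulAut.conj a g := by
    simp [commutatorElement_def]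
  have h2 := hc.orderOf_mul_eq_mul_orderOf_of_coprime hco
  rw [h1, MulEquiv.orderOf_eq] at h2
  exact orderOf_eq_one_iff.mp (Nat.eq_of_mul_eq_mul_right hgf.orderOf_pos (by rw [one_mul]; exact h2.symm))

variable [Finite G]

theorem coprime_orderOf_of_mem {P : Subgroup G} {g x : G} (hco : (orderOf g).Coprime (Nat.card P))
    (hx : x ∈ P) : (orderOf x).Coprime (orderOf g) :=
  (hco.symm).coprime_dvd_left (orderOf_dvd_natCard P hx)

theorem exists_it_ne_one {P : Subgroup G} {g : G} (hg : g ∈ normalizer (P : Set G))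
    (hco : (orderOf g).Coprime (Nat.card P)) (h : ¬ ∀ v ∈ P, Commute v g) :
    ∀ n, ∃ w ∈ P, it g n w ≠ 1 := by
  push Not at h
  obtain ⟨v, hv, hvg⟩ := h
  intro n
  induction n with
  | zero => exact ⟨v, hv, fun h => hvg (by rw [show v = 1 from h]; exact Commute.one_left g)⟩
  | succ n ih =>
    by_contra! hall
    rcases n with _ | n
    · exact hvg (commutatorElement_eq_one_iff_commute.mp (hall v hv))
    · obtain ⟨w, hw, hw1⟩ := ih
      refine hw1 (comm_eq_one (isOfFinOrder_of_finite g) ?_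
        (coprime_orderOf_of_mem hco (it_mem hg hw (n + 1))))
      exact commutatorElement_eq_one_iff_commute.mp (hall w hw)

theorem exists_it_eq {P : Subgroup G} {g : G} (hg : g ∈ normalizer (P : Set G))
    (hfix : ∀ w ∈ P, Commute w g → w = 1) :
    ∀ (k : ℕ), ∀ x ∈ P, ∃ v ∈ P, it g k v = x := by
  intro k
  induction k with
  | zero => exact fun x hx => ⟨x, hx, rfl⟩
  | succ k ih =>
    intro x hx
    let f : P → P := fun a => ⟨⁅(a : G), g⁆, it_mem hg a.2 1⟩
    have hf : Function.Injective f := by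
      intro a b hab
      have h1 : (a : G) * g * (a : G)⁻¹ = b * g * (b : G)⁻¹ := by
        have h2 : ⁅(a : G), g⁆ = ⁅(b : G), g⁆ := congrArg Subtype.val hab
        rw [commutatorElement_def, commutatorElement_def] at h2
        exact mul_right_cancel h2
      refine Subtype.ext (inv_mul_eq_one.mp ?_).symm
      refine hfix _ (P.mul_mem (P.inv_mem b.2) a.2) ?_
      calc (b : G)⁻¹ * a * g = (b : G)⁻¹ * ((a : G) * g * (a : G)⁻¹) * a := by simp [mul_assoc]
        _ = g * ((b : G)⁻¹ * a) := by rw [h1]; simp [mul_assoc]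
    obtain ⟨a, ha⟩ := Finite.injective_iff_surjective.mp hf ⟨x, hx⟩
    obtain ⟨v, hv, hva⟩ := ih a a.2
    exact ⟨v, hv, by rw [it, hva]; exact congrArg Subtype.val ha⟩

/-- The hypothesis of Frobenius' normal complement theorem, for all primes. -/
def Frob (G : Type*) [Group G] : Prop :=
  ∀ (p : ℕ), p.Prime → ∀ D : Subgroup G, IsPGroup p D → ∀ g ∈ normalizer (D : Set G),
    (orderOf g).Coprime p → ∀ v ∈ D, Commute v g

theorem Frob.exists_complement (h : Frob G) (p : ℕ) [hp : Fact p.Prime] :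
    ∃ (P : Sylow p G) (C : Subgroup G), C.Normal ∧ C.IsComplement' (P : Subgroup G) ∧
      ¬ p ∣ Nat.card C := by
  obtain ⟨P, C, hC, hcomp⟩ := Cfsg.Agent.Transfer.hasNormalPComplement_of_frobenius (p := p) (G := G)
    fun D hD g hg ho => mem_centralizer_iff.mpr fun v hv => (h p hp.out D hD g hg ho v hv).eq
  exact ⟨P, C, hC, hcomp, by rw [← hcomp.index_eq_card]; exact P.not_dvd_index⟩

theorem Frob.eq_one (h : Frob G) {x : G}
    (hx : ∀ (p : ℕ) [Fact p.Prime] (P : Sylow p G) (C : Subgroup G),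
      C.Normal → C.IsComplement' (P : Subgroup G) → ¬ p ∣ Nat.card C → x ∈ C) : x = 1 := by
  rw [← orderOf_eq_one_iff]
  by_contra hne
  obtain ⟨p, hp, hpx⟩ := Nat.exists_prime_and_dvd hne
  haveI := Fact.mk hp
  obtain ⟨P, C, hC, hcomp, hnd⟩ := h.exists_complement p
  exact hnd (hpx.trans (orderOf_dvd_natCard C (hx p P C hC hcomp hnd)))

/-- The `k`-th lower central subgroup vanishes if it does so in every `p`-subgroup. -/
theorem Frob.lcs_eq_bot (h : Frob G) (k : ℕ)
    (hval : ∀ (p : ℕ), p.Prime → ∀ P : Subgroup G, IsPGroup p P → ∀ y : P, Val k y → (y : G) = 1) :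
    (⊤ : Subgroup G).lowerCentralSeries k = ⊥ := by
  refine (eq_bot_iff_forall _).mpr fun x hx => h.eq_one fun p _ P C hC hcomp _ => ?_
  haveI := hC
  refine lcs_le_of_val k C (fun z hz => ?_) hx
  have hs : Function.Surjective ((QuotientGroup.mk' C).comp (P : Subgroup G).subtype) := by
    intro q
    obtain ⟨g, rfl⟩ := QuotientGroup.mk'_surjective C q
    obtain ⟨c, hc, u, hu, rfl⟩ := mem_sup_of_normal_left.mp (hcomp.sup_eq_top.symm ▸ mem_top g)
    refine ⟨⟨u, hu⟩, ?_⟩
    show QuotientGroup.mk' C u = QuotientGroup.mk' C (c * u)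
    rw [map_mul, show QuotientGroup.mk' C c = 1 from (QuotientGroup.eq_one_iff c).mpr hc, one_mul]
  obtain ⟨y, hy, hyz⟩ := val_lift _ hs k _ (val_map (QuotientGroup.mk' C) k z hz)
  refine (QuotientGroup.eq_one_iff z).mp (hyz.symm.trans ?_)
  show QuotientGroup.mk' C (y : G) = 1
  rw [hval p (Fact.out) P P.2 y hy, map_one]

theorem Frob.isNilpotent (h : Frob G) : Group.IsNilpotent G := by
  refine (Group.isNilpotent_of_finite_tfae.out 0 3).mpr fun p hp P => ?_
  haveI : Fact p.Prime := hp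
  classical
  choose Q C hC hcomp hnd using fun q : {q : ℕ // q.Prime ∧ q ≠ p} =>
    (haveI := Fact.mk q.2.1; h.exists_complement q.1)
  set I : Subgroup G := ⨅ q, C q
  haveI : I.Normal := normal_iInf_normal hC
  have hI : IsPGroup p I := by
    rw [IsPGroup.iff_orderOf]
    intro x
    refine ⟨(orderOf x).primeFactorsList.length, Nat.eq_prime_pow_of_unique_prime_dvd (orderOf_pos x).ne' ?_⟩
    intro d hd hdx
    by_contra hne
    refine hnd ⟨d, hd, hne⟩ (hdx.trans ?_)
    rw [← Subgroup.orderOf_coe]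
    exact orderOf_dvd_natCard _ ((mem_iInf.mp x.2) ⟨d, hd, hne⟩)
  have hPI : (P : Subgroup G) ≤ I := le_iInf fun q => by
    haveI := Fact.mk q.2.1
    haveI := hC q
    intro u hu
    obtain ⟨j, hj⟩ := P.2 ⟨u, hu⟩
    obtain ⟨c, hc, v, hv, huv⟩ := mem_sup_of_normal_left.mp ((hcomp q).sup_eq_top.symm ▸ mem_top u)
    obtain ⟨i, hi⟩ := (Q q).2 ⟨v, hv⟩
    have h1 : QuotientGroup.mk' (C q) u = QuotientGroup.mk' (C q) v := by
      rw [← huv, map_mul, show QuotientGroup.mk' (C q) c = 1 from (QuotientGroup.eq_one_iff c).mpr hc,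
        one_mul]
    have h2 : orderOf (QuotientGroup.mk' (C q) u) ∣ p ^ j := orderOf_dvd_of_pow_eq_one (by
      rw [← map_pow, show u ^ p ^ j = 1 from congrArg Subtype.val hj, map_one])
    have h3 : orderOf (QuotientGroup.mk' (C q) u) ∣ q.1 ^ i := orderOf_dvd_of_pow_eq_one (by
      rw [h1, ← map_pow, show v ^ q.1 ^ i = 1 from congrArg Subtype.val hi, map_one])
    exact (QuotientGroup.eq_one_iff u).mp (orderOf_eq_one_iff.mp (Nat.eq_one_of_dvd_coprimes
      (Nat.Coprime.pow _ _ ((Nat.coprime_primes hp.out q.2.1).mpr (Ne.symm q.2.2))) h2 h3))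
  have : I = (P : Subgroup G) := P.3 hI hPI
  rw [← this]
  infer_instance

end Cfsg.Agent.ValueSimple
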