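import Cfsg.Agent.Lib.ValueSimple23.Basic
import Cfsg.Agent.Lib.Zipper23.UniqueMax
import Cfsg.Agent.Lib.Transfer.Control
import Cfsg.Agent.Lib.OddLocal.PiCore
import Cfsg.Agent.Lib.Basics.Tools
import Cfsg.Agent.Lib.Basics.Cores

/-!
There is no nonabelian finite simple group with metanilpotent proper subgroups in which every
iterated commutator value of prime-power order is subnormal in each proper subgroup containing it.
The proof is a count of elements over maximal subgroups.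
-/

set_option autoImplicit false
set_option linter.style.haveILetI false

namespace Cfsg.Agent.ValueSimple

open Subgroup Cfsg
open scoped Pointwise commutatorElement

/-- A Sylow subgroup inside the derived subgroup lies in every lower central subgroup. -/
theorem sylow_le_lcs {G : Type*} [Group G] [Finite G] {p : ℕ} [hp : Fact p.Prime] (P : Sylow p G)
    (hP : (P : Subgroup G) ≤ _root_.commutator G) (j : ℕ) :
    (P : Subgroup G) ≤ (⊤ : Subgroup G).lowerCentralSeries j := by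
  set L := (⊤ : Subgroup G).lowerCentralSeries j
  haveI : Group.IsNilpotent (G ⧸ L) := by
    rw [Subgroup.nilpotent_iff_lowerCentralSeries]
    refine ⟨j, ?_⟩
    rw [← map_top_of_surjective (QuotientGroup.mk' L) (QuotientGroup.mk'_surjective L),
      ← Subgroup.map_lowerCentralSeries, QuotientGroup.map_mk'_self]
  have hF : Frob (G ⧸ L) := by
    intro q hq D hD g _ hgq v hv
    haveI := Fact.mk hq
    obtain ⟨i, hi⟩ := (IsPGroup.iff_orderOf.mp hD) ⟨v, hv⟩
    rw [← Subgroup.orderOf_coe] at hi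
    exact Cfsg.Agent.Transfer.commute_of_coprime_of_nilpotent
      (by rw [hi]; exact (hgq.pow_right i).symm)
  obtain ⟨Q, C, hC, hcomp, hnd⟩ := hF.exists_complement p
  haveI := hC
  set f := (QuotientGroup.mk' C).comp (QuotientGroup.mk' L) with hf
  have hfs : Function.Surjective f :=
    (QuotientGroup.mk'_surjective C).comp (QuotientGroup.mk'_surjective L)
  have hqp : IsPGroup p ((G ⧸ L) ⧸ C) := by
    obtain ⟨i, hi⟩ := (Q.2).exists_card_eq
    refine IsPGroup.of_card (n := i) ?_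
    rw [← index_eq_card, hcomp.symm.index_eq_card, hi]
  have htop : (P : Subgroup G).map f = ⊤ := by
    have h1 := (P.mapSurjective hfs).3 (Q := ⊤) (hqp.of_equiv topEquiv.symm) le_top
    exact h1.symm
  have hcomm : _root_.commutator ((G ⧸ L) ⧸ C) = ⊤ := by
    refine top_le_iff.mp (htop ▸ (map_mono hP).trans ?_)
    rw [_root_.commutator_def, map_commutator]
    exact commutator_mono le_top le_top
  haveI : Group.IsNilpotent ((G ⧸ L) ⧸ C) := hqp.isNilpotent
  have hsub : Subsingleton ((G ⧸ L) ⧸ C) := by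
    by_contra h
    rw [not_subsingleton_iff_nontrivial] at h
    exact (Group.IsSolvable.commutator_lt_top_of_nontrivial ((G ⧸ L) ⧸ C)).ne hcomm
  intro x hx
  refine (QuotientGroup.eq_one_iff x).mp ?_
  have h1 : QuotientGroup.mk' L x ∈ C :=
    (QuotientGroup.eq_one_iff _).mp (Subsingleton.elim (f x) 1)
  obtain ⟨i, hi⟩ := (IsPGroup.iff_orderOf.mp P.2) ⟨x, hx⟩
  rw [← Subgroup.orderOf_coe] at hi
  have h2 : orderOf (QuotientGroup.mk' L x) ∣ p ^ i := hi ▸ orderOf_map_dvd _ x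
  exact orderOf_eq_one_iff.mp (Nat.eq_one_of_dvd_coprimes
    ((hp.out.coprime_iff_not_dvd.mpr hnd).pow_left i) h2 (orderOf_dvd_natCard C h1))

variable {S : Type*} [Group S] [Finite S]

/-- The setting. -/
structure Setup (S : Type*) [Group S] (k : ℕ) (Good : ℕ → S → Prop) : Prop where
  simple : IsSimpleGroup S
  noncomm : ¬ ∀ a b : S, a * b = b * a
  ne_one : ∀ {p x}, Good p x → x ≠ 1
  pgroup : ∀ {p x}, Good p x → IsPGroup p (zpowers x)
  conj : ∀ {p x}, Good p x → ∀ g, Good p (g * x * g⁻¹)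
  comm : ∀ {p : ℕ}, p.Prime → ∀ (P : Subgroup S), IsPGroup p P → ∀ {x a}, Good p x → x ∈ P → a ∈ P →
    ⁅x, a⁆ ≠ 1 → Good p ⁅x, a⁆
  iter : ∀ {p : ℕ}, p.Prime → ∀ (P : Subgroup S), IsPGroup p P → ∀ {g v},
    g ∈ normalizer (P : Set S) → v ∈ P → it g k v ≠ 1 → Good p (it g k v)
  core : ∀ {p : ℕ} {x}, p.Prime → Good p x → ∀ H : Subgroup S, H ≠ ⊤ → x ∈ H →
    x ∈ (pCore p H).map H.subtype
  proper : ∀ H : Subgroup S, H ≠ ⊤ → Group.IsNilpotent ↥(H.lowerCentralSeries k)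

/-- `N` is the maximal subgroup attached to `u`. -/
def Own (u : S) (N : Subgroup S) : Prop := IsCoatom N ∧ centralizer ({u} : Set S) ≤ N

/-- The primes of the kernel of `N`. -/
def pi (N : Subgroup S) : Set ℕ := {r | r.Prime ∧ ∃ u, orderOf u = r ∧ Own u N}

/-- The kernel of `N`. -/
noncomputable def K (N : Subgroup S) : Subgroup S := piCoreOf (pi N) N

/-- `L` is a complement to the kernel in `N`. -/
def Compl (N L : Subgroup S) : Prop := L ≤ N ∧ K N ⊓ L = ⊥ ∧ K N ⊔ L = N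

omit [Finite S] in
theorem mem_of_own {u : S} {N : Subgroup S} (h : Own u N) : u ∈ N :=
  h.2 (mem_centralizer_singleton_iff.mpr rfl)

omit [Finite S] in
theorem ne_one_of_orderOf {r : ℕ} (hr : r.Prime) {u : S} (h : orderOf u = r) : u ≠ 1 :=
  fun h1 => hr.ne_one (by rw [← h, h1, orderOf_one])

omit [Finite S] in
theorem isPGroup_zpowers_of_orderOf {r : ℕ} (hr : r.Prime) {u : S} (h : orderOf u = r) :
    IsPGroup r (zpowers u) :=
  haveI := Fact.mk hr
  IsPGroup.of_card (n := 1) (by rw [Nat.card_zpowers, h, pow_one])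

theorem exists_power_orderOf {r : ℕ} (g : S) (h : r ∣ orderOf g) :
    ∃ z ∈ zpowers g, orderOf z = r :=
  ⟨g ^ (orderOf g / r), npow_mem_zpowers g _, orderOf_pow_orderOf_div (orderOf_pos g).ne' h⟩

namespace Setup

variable {k : ℕ} {Good : ℕ → S → Prop} (h : Setup S k Good)
include h

omit [Finite S] in
theorem normal_eq (H : Subgroup S) [hH : H.Normal] : H = ⊥ ∨ H = ⊤ :=
  h.simple.eq_bot_or_eq_top_of_normal H hH

omit [Finite S] in
theorem centralizer_ne_top {u : S} (hu : u ≠ 1) : centralizer ({u} : Set S) ≠ ⊤ := fun he => by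
  have hz : u ∈ center S := mem_center_iff.mpr fun g =>
    mem_centralizer_singleton_iff.mp (he ▸ mem_top g)
  rcases h.normal_eq (center S) with hc | hc
  · exact hu (mem_bot.mp (hc ▸ hz))
  · exact h.noncomm fun a b => (mem_center_iff.mp (hc ▸ mem_top a) b).symm

omit [Finite S] in
theorem commutator_eq_top : _root_.commutator S = ⊤ := by
  refine (h.normal_eq (_root_.commutator S)).resolve_left fun hb => h.noncomm fun a b => ?_
  refine commutatorElement_eq_one_iff_mul_comm.mp (mem_bot.mp (hb ▸ ?_))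
  rw [_root_.commutator_def]
  exact commutator_mem_commutator (mem_top a) (mem_top b)

theorem coatom_unique {p : ℕ} (hp : p.Prime) {x : S} (hx : Good p x) {N₁ N₂ : Subgroup S}
    (h1 : IsCoatom N₁) (h2 : IsCoatom N₂) (hx1 : x ∈ N₁) (hx2 : x ∈ N₂) : N₁ = N₂ := by
  haveI := Fact.mk hp
  set A := zpowers x
  have hA : A ≠ ⊤ := fun he => h.noncomm fun a b => by
    have ha : a ∈ A := he ▸ mem_top a
    have hb : b ∈ A := he ▸ mem_top b
    obtain ⟨i, rfl⟩ := mem_zpowers_iff.mp ha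
    obtain ⟨j, rfl⟩ := mem_zpowers_iff.mp hb
    rw [← zpow_add, ← zpow_add, add_comm]
  have hclo : normalClosure (A : Set S) = ⊤ :=
    (h.normal_eq _).resolve_left fun hb => h.ne_one hx
      (mem_bot.mp (hb ▸ subset_normalClosure (mem_zpowers x)))
  refine Zipper23.unique_coatom A hclo hA (fun he => hA (top_le_iff.mp (he.ge.trans ?_))) N₁ N₂ h1 h2
    (zpowers_le.mpr hx1) (zpowers_le.mpr hx2)
  refine sSup_le fun H hH => ?_
  obtain ⟨hcl, hne⟩ := hH
  have hxH : x ∈ H := hcl.1 (mem_zpowers x)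
  have hO : (pCore p H).map H.subtype = H := by
    refine hcl.2 _ (zpowers_le.mpr (h.core hp hx H hne hxH)) (map_subtype_le _) ?_
    have h3 := le_normalizer_map (H := pCore p H) H.subtype
    rwa [normalizer_eq_top_iff.mpr (inferInstance : (pCore p H).Normal), ← MonoidHom.range_eq_map,
      range_subtype] at h3
  have hHp : IsPGroup p H := hO ▸ (Basics.pCore_isPGroup p).map _
  haveI : Group.IsNilpotent H := hHp.isNilpotent
  by_contra hle
  have hlt : A.subgroupOf H ≠ ⊤ := fun ht => hle (subgroupOf_eq_top.mp ht)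
  obtain ⟨M, hM, hAM⟩ := (eq_top_or_exists_le_coatom (A.subgroupOf H)).resolve_left hlt
  haveI : M.Normal := ((Group.isNilpotent_of_finite_tfae (G := H)).out 0 2 rfl rfl).mp ‹_› M hM
  have h4 := (Zipper23.closed_iff hcl.1).mp hcl
  exact hM.1 (top_le_iff.mp (h4 ▸ normalClosure_le_normal hAM))

theorem frob_of_noGood (D : Subgroup S) (hD : ∀ p x, p.Prime → Good p x → x ∉ D) : Frob D := by
  intro p hp E hE g hg hgp v hv
  haveI := Fact.mk hp
  by_contra hne
  have hE' : IsPGroup p (E.map D.subtype) := hE.map _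
  have hgn : (g : S) ∈ normalizer ((E.map D.subtype : Subgroup S) : Set S) :=
    le_normalizer_map D.subtype ⟨g, hg, rfl⟩
  obtain ⟨i, hi⟩ := hE'.exists_card_eq
  obtain ⟨w, hw, hw1⟩ := exists_it_ne_one hgn
    (by rw [hi, Subgroup.orderOf_coe]; exact hgp.pow_right i)
    (fun hall => hne (Subtype.ext (hall v ⟨v, hv, rfl⟩).eq)) k
  exact hD p _ hp (h.iter hp _ hE' hgn hw hw1) (map_subtype_le _ (it_mem hgn hw k))

theorem exists_good_center {p : ℕ} [hp : Fact p.Prime] (hdvd : p ∣ Nat.card S) (P : Sylow p S) :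
    ∃ w ∈ (P : Subgroup S), Good p w ∧ ∀ a ∈ (P : Subgroup S), a * w = w * a := by
  obtain ⟨x, hx, hxP⟩ : ∃ x, Good p x ∧ x ∈ (P : Subgroup S) := by
    by_contra! hall
    have hnc : HasNormalPComplement p S := by
      refine Cfsg.Agent.Transfer.hasNormalPComplement_of_frobenius fun D hD g hg hgp => ?_
      refine mem_centralizer_iff.mpr fun v hv => ?_
      by_contra hne
      obtain ⟨i, hi⟩ := hD.exists_card_eq
      obtain ⟨w, hw, hw1⟩ := exists_it_ne_one hg (by rw [hi]; exact hgp.pow_right i)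
        (fun hc => hne (hc v hv).eq) k
      obtain ⟨Q, hQ⟩ := hD.exists_le_sylow
      obtain ⟨a, ha⟩ := MulAction.exists_smul_eq S Q P
      refine hall _ (h.conj (h.iter hp.out _ hD hg hw hw1) a) ?_
      rw [← ha, Sylow.coe_subgroup_smul]
      exact Basics.conj_mem_conj_smul (hQ (it_mem hg hw k))
    obtain ⟨Q, C, hC, hcomp⟩ := hnc
    haveI := hC
    rcases h.normal_eq C with rfl | rfl
    · have hQ : (Q : Subgroup S) = ⊤ := isComplement'_bot_left.mp hcomp
      have hSp : IsPGroup p S := (hQ ▸ Q.2 : IsPGroup p (⊤ : Subgroup S)).of_equiv topEquiv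
      haveI := h.simple
      haveI := hSp.isNilpotent
      exact h.noncomm fun a b => mul_comm a b
    · exact Q.not_dvd_index (by rw [hcomp.index_eq_card, card_top]; exact hdvd)
  haveI : Group.IsNilpotent ↥(P : Subgroup S) := P.2.isNilpotent
  obtain ⟨j, hj⟩ := Group.IsNilpotent.nilpotent (G := ↥(P : Subgroup S))
  have key : ∀ j, ∀ x : (P : Subgroup S), x ∈ Subgroup.upperCentralSeries ↥(P : Subgroup S) j →
      Good p (x : S) → ∃ w ∈ (P : Subgroup S), Good p w ∧ ∀ a ∈ (P : Subgroup S), a * w = w * a := by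
    intro j
    induction j with
    | zero =>
      intro y hy hg
      rw [Subgroup.upperCentralSeries_zero, mem_bot] at hy
      exact absurd (congrArg Subtype.val hy) (h.ne_one hg)
    | succ j ih =>
      intro y hy hg
      by_cases hc : ∀ a ∈ (P : Subgroup S), a * y = y * a
      · exact ⟨y, y.2, hg, hc⟩
      push Not at hc
      obtain ⟨a, ha, hay⟩ := hc
      exact ih ⁅y, ⟨a, ha⟩⁆ (Subgroup.mem_upperCentralSeries_succ_iff.mp hy ⟨a, ha⟩)
        (h.comm hp.out _ P.2 hg y.2 ha fun he => hay (commutatorElement_eq_one_iff_mul_comm.mp he).symm)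
  exact key j ⟨x, hxP⟩ (hj ▸ mem_top _) hx

theorem own_unique {p : ℕ} (hp : p.Prime) {u : S} (hup : IsPGroup p (zpowers u)) (hu : u ≠ 1)
    {N₁ N₂ : Subgroup S} (h1 : Own u N₁) (h2 : Own u N₂) : N₁ = N₂ := by
  haveI := Fact.mk hp
  obtain ⟨P, hP⟩ := hup.exists_le_sylow
  have hdvd : p ∣ Nat.card S := by
    obtain ⟨i, hi⟩ := (IsPGroup.iff_orderOf.mp hup) ⟨u, mem_zpowers u⟩
    rw [← Subgroup.orderOf_coe] at hi
    rcases i with _ | i
    · exact absurd (orderOf_eq_one_iff.mp (by simpa using hi)) hu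
    · exact (hi ▸ dvd_pow_self p i.succ_ne_zero).trans (orderOf_dvd_natCard u)
  obtain ⟨w, _, hgw, hc⟩ := h.exists_good_center hdvd P
  have hwu : w ∈ centralizer ({u} : Set S) :=
    mem_centralizer_singleton_iff.mpr (hc u (hP (mem_zpowers u))).symm
  exact h.coatom_unique hp hgw h1.1 h2.1 (h1.2 hwu) (h2.2 hwu)

theorem exists_own {u : S} (hu : u ≠ 1) : ∃ N, Own u N := by
  obtain ⟨N, hN, hle⟩ := (eq_top_or_exists_le_coatom _).resolve_left (h.centralizer_ne_top hu)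
  exact ⟨N, hN, hle⟩

theorem own_of_good {p : ℕ} (hp : p.Prime) {x : S} (hx : Good p x) {N : Subgroup S} (hN : IsCoatom N)
    (hxN : x ∈ N) : Own x N := by
  obtain ⟨N', hN'⟩ := h.exists_own (h.ne_one hx)
  exact h.coatom_unique hp hx hN'.1 hN (mem_of_own hN') hxN ▸ hN'

/-- All of a Sylow subgroup through `u` is attached to the maximal subgroup of `u`. -/
theorem sylow_own {p : ℕ} [hp : Fact p.Prime] (P : Sylow p S) {u : S} (huP : u ∈ (P : Subgroup S))
    (hu : u ≠ 1) {N : Subgroup S} (hN : Own u N) :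
    (P : Subgroup S) ≤ N ∧ ∀ a ∈ (P : Subgroup S), a ≠ 1 → Own a N := by
  have hdvd : p ∣ Nat.card S := by
    obtain ⟨i, hi⟩ := (IsPGroup.iff_orderOf.mp P.2) ⟨u, huP⟩
    rw [← Subgroup.orderOf_coe] at hi
    rcases i with _ | i
    · exact absurd (orderOf_eq_one_iff.mp (by simpa using hi)) hu
    · exact (hi ▸ dvd_pow_self p i.succ_ne_zero).trans (orderOf_dvd_natCard u)
  obtain ⟨w, _, hgw, hc⟩ := h.exists_good_center hdvd P
  have hwN : w ∈ N := hN.2 (mem_centralizer_singleton_iff.mpr (hc u huP).symm)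
  have hown := h.own_of_good hp.out hgw hN.1 hwN
  refine ⟨fun a ha => hown.2 (mem_centralizer_singleton_iff.mpr (hc a ha)), fun a ha ha1 => ?_⟩
  obtain ⟨N', hN'⟩ := h.exists_own ha1
  exact h.coatom_unique hp.out hgw hN'.1 hN.1
    (hN'.2 (mem_centralizer_singleton_iff.mpr (hc a ha).symm)) hwN ▸ hN'

theorem own_same {p : ℕ} (hp : p.Prime) {Q : Subgroup S} (hQ : IsPGroup p Q) {u v : S} (hu : u ∈ Q)
    (hv : v ∈ Q) (hu1 : u ≠ 1) (hv1 : v ≠ 1) {N : Subgroup S} (hN : Own u N) : Own v N := by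
  haveI := Fact.mk hp
  obtain ⟨P, hP⟩ := hQ.exists_le_sylow
  exact (h.sylow_own P (hP hu) hu1 hN).2 v (hP hv) hv1

omit [Finite S] h in
theorem own_conj {u : S} {N : Subgroup S} (hN : Own u N) (g : S) [Finite S] :
    Own (g * u * g⁻¹) (MulAut.conj g • N) := by
  refine ⟨Zipper23.smul_coatom hN.1 g, fun y hy => ?_⟩
  rw [Basics.mem_conj_smul]
  refine hN.2 (mem_centralizer_singleton_iff.mpr ?_)
  have h1 := mem_centralizer_singleton_iff.mp hy
  calc g⁻¹ * y * g * u = g⁻¹ * (y * (g * u * g⁻¹)) * g := by simp [mul_assoc]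
    _ = u * (g⁻¹ * y * g) := by rw [h1]; simp [mul_assoc]

theorem mem_of_conj_own {p : ℕ} (hp : p.Prime) {u : S} (hup : IsPGroup p (zpowers u)) (hu : u ≠ 1)
    {g : S} {N : Subgroup S} (h1 : Own u N) (h2 : Own (g * u * g⁻¹) N) : g ∈ N := by
  have hg : MulAut.conj g • N = N := by
    have hup' : IsPGroup p (zpowers (g * u * g⁻¹)) := by
      have := hup.map (MulAut.conj g).toMonoidHom
      rwa [MonoidHom.map_zpowers] at this
    exact h.own_unique hp hup' (by simp [hu]) (own_conj h1 g) h2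
  have hn := Basics.conj_smul_eq_self_iff.mp hg
  rcases eq_or_lt_of_le (le_normalizer (H := N)) with he | hlt
  · rwa [← he] at hn
  · exfalso
    haveI := normalizer_eq_top_iff.mp (h1.1.2 _ hlt)
    rcases h.normal_eq N with hb | ht
    · exact hu (mem_bot.mp (hb ▸ mem_of_own h1))
    · exact h1.1.1 ht

/-- The Sylow subgroups for the primes of the kernel. -/
theorem sylow_facts {N : Subgroup S} {r : ℕ} (hr : r ∈ pi N) :
    ∃ _ : Fact r.Prime, ∃ P : Sylow r S, (P : Subgroup S) ≤ N ∧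
      N ≤ normalizer ((P : Subgroup S) : Set S) ∧
      (∀ j, (P : Subgroup S) ≤ N.lowerCentralSeries j) ∧
      (∀ a ∈ (P : Subgroup S), a ≠ 1 → Own a N) ∧ ∃ w ∈ (P : Subgroup S), Good r w := by
  obtain ⟨hrp, u, hu, hown⟩ := hr
  haveI := Fact.mk hrp
  have hu1 := ne_one_of_orderOf hrp hu
  obtain ⟨P, hP⟩ := (isPGroup_zpowers_of_orderOf hrp hu).exists_le_sylow
  obtain ⟨hPN, hall⟩ := h.sylow_own P (hP (mem_zpowers u)) hu1 hown
  have hdvd : r ∣ Nat.card S := hu ▸ orderOf_dvd_natCard u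
  obtain ⟨w, hwP, hw, -⟩ := h.exists_good_center hdvd P
  have hfoc := Cfsg.Agent.Transfer.commutator_inf_eq_of_control P N hPN fun x hx g hg => by
    by_cases hx1 : x = 1
    · exact ⟨1, N.one_mem, by simp [hx1]⟩
    refine ⟨g, ?_, rfl⟩
    have h2 : Own (g⁻¹ * x * g⁻¹⁻¹) N := hall _ (by rwa [inv_inv]) (fun he => hx1 (by
      calc x = g * (g⁻¹ * x * g⁻¹⁻¹) * g⁻¹ := by simp [mul_assoc]
        _ = 1 := by rw [he]; simp))
    exact inv_mem_iff.mp (h.mem_of_conj_own hrp (P.2.to_le (zpowers_le.mpr hx)) hx1 (hall x hx hx1) h2)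
  rw [h.commutator_eq_top, top_inf_eq] at hfoc
  have hPcomm : ((P.subtype hPN : Sylow r N) : Subgroup N) ≤ _root_.commutator N := by
    intro a ha
    have h1 : (a : S) ∈ ⁅N, N⁆ := (hfoc.le ha).1
    rw [← map_subtype_commutator] at h1
    obtain ⟨b, hb, hbe⟩ := h1
    exact Subtype.ext hbe ▸ hb
  have hlcs : ∀ j, (P : Subgroup S) ≤ N.lowerCentralSeries j := by
    intro j a ha
    rw [← Subgroup.top_subtype_lowerCentralSeries]
    exact ⟨⟨a, hPN ha⟩, sylow_le_lcs (P.subtype hPN) hPcomm j ha, rfl⟩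
  refine ⟨inferInstance, P, hPN, ?_, hlcs, hall, w, hwP, hw⟩
  set L := N.lowerCentralSeries k
  haveI : Group.IsNilpotent L := h.proper N hown.1.1
  have hLN : N ≤ normalizer (L : Set S) := Subgroup.self_le_normalizer_lowerCentralSeries N k
  set P' := P.subtype (hlcs k)
  haveI : (P' : Subgroup L).Normal := inferInstance
  intro g hg
  rw [mem_normalizer_iff]
  have hmem : ∀ g ∈ N, ∀ x ∈ (P : Subgroup S), g * x * g⁻¹ ∈ (P : Subgroup S) := by
    intro g hg x hx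
    have hgx : g * x * g⁻¹ ∈ L := (mem_normalizer_iff.mp (hLN hg) x).mp (hlcs k hx)
    have hp' : IsPGroup r (zpowers (⟨g * x * g⁻¹, hgx⟩ : L)) := by
      obtain ⟨i, hi⟩ := (IsPGroup.iff_orderOf.mp P.2) ⟨x, hx⟩
      rw [← Subgroup.orderOf_coe] at hi
      refine IsPGroup.of_card (n := i) ?_
      rw [Nat.card_zpowers, Subgroup.orderOf_mk, show g * x * g⁻¹ = MulAut.conj g x from rfl,
        MulEquiv.orderOf_eq, hi]
    obtain ⟨R, hR⟩ := hp'.exists_le_sylow
    have hRP : R = P' := (Sylow.unique_of_normal P' inferInstance).uniq R |>.trans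
      ((Sylow.unique_of_normal P' inferInstance).uniq P').symm
    exact (hRP ▸ hR) (mem_zpowers _)
  intro x
  exact ⟨fun hx => hmem g hg x hx, fun hx => by
    simpa [mul_assoc] using hmem g⁻¹ (N.inv_mem hg) _ hx⟩

/-- An element of a kernel prime order in `N` is attached to `N`. -/
theorem own_of_pi {N : Subgroup S} {r : ℕ} (hr : r ∈ pi N) {v : S} (hv : orderOf v = r) (hvN : v ∈ N) :
    Own v N := by
  obtain ⟨_, P, hPN, hnP, -, hall, -⟩ := h.sylow_facts hr
  refine hall v ?_ (ne_one_of_orderOf hr.1 hv)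
  have hz : zpowers v ≤ normalizer ((P : Subgroup S) : Set S) := (zpowers_le.mpr hvN).trans hnP
  have := (P.2.to_sup_of_normal_left' (isPGroup_zpowers_of_orderOf hr.1 hv) hz)
  have hle := P.3 this le_sup_left
  exact hle ▸ mem_sup_right (mem_zpowers v)

theorem K_facts (N : Subgroup S) :
    K N ≤ N ∧ N ≤ normalizer (K N : Set S) ∧ ∀ r, r.Prime → r ∣ Nat.card (K N) → r ∈ pi N :=
  ⟨OddLocal.piCoreOf_le _ _, OddLocal.le_normalizer_piCoreOf_self _ _,
    fun _ hr hd => OddLocal.piCoreOf_primes _ _ hr hd⟩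

theorem sylow_le_K {N : Subgroup S} {r : ℕ} (hr : r ∈ pi N) :
    ∃ _ : Fact r.Prime, ∃ P : Sylow r S, (P : Subgroup S) ≤ K N ∧ ∃ w ∈ (P : Subgroup S), Good r w := by
  obtain ⟨hf, P, hPN, hnP, -, -, hw⟩ := h.sylow_facts hr
  refine ⟨hf, P, OddLocal.le_piCoreOf hPN hnP fun q hq hd => ?_, hw⟩
  obtain ⟨i, hi⟩ := P.2.exists_card_eq
  rw [hi] at hd
  exact ((Nat.prime_dvd_prime_iff_eq hq hr.1).mp (hq.dvd_of_dvd_pow hd)) ▸ hr

theorem coprime_K (N : Subgroup S) : (Nat.card (K N)).Coprime ((K N).relIndex N) := by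
  refine Nat.coprime_of_dvd fun r hr hd hd2 => ?_
  obtain ⟨_, P, hPK, -⟩ := h.sylow_le_K ((h.K_facts N).2.2 r hr hd)
  haveI := Fact.mk hr
  refine P.not_dvd_index ((hd2.trans (relIndex_dvd_of_le_left N hPK)).trans ?_)
  rw [← relIndex_mul_index (hPK.trans (h.K_facts N).1)]
  exact dvd_mul_right _ _

theorem mem_K_of {N : Subgroup S} {g : S} (hg : g ∈ N)
    (hpi : ∀ r, r.Prime → r ∣ orderOf g → r ∈ pi N) : g ∈ K N := by
  haveI : ((K N).subgroupOf N).Normal :=
    (normal_subgroupOf_iff_le_normalizer (h.K_facts N).1).mpr (h.K_facts N).2.1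
  have h1 : orderOf (QuotientGroup.mk' ((K N).subgroupOf N) ⟨g, hg⟩) ∣ orderOf g := by
    refine (orderOf_map_dvd _ _).trans ?_
    rw [Subgroup.orderOf_mk]
  have h2 : orderOf (QuotientGroup.mk' ((K N).subgroupOf N) ⟨g, hg⟩) ∣ (K N).relIndex N := by
    rw [relIndex, index_eq_card]
    exact orderOf_dvd_natCard _
  have hco : (orderOf g).Coprime ((K N).relIndex N) := by
    refine Nat.coprime_of_dvd fun r hr hd hd2 => ?_
    obtain ⟨_, P, hPK, -⟩ := h.sylow_le_K (hpi r hr hd)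
    haveI := Fact.mk hr
    refine P.not_dvd_index ((hd2.trans (relIndex_dvd_of_le_left N hPK)).trans ?_)
    rw [← relIndex_mul_index (hPK.trans (h.K_facts N).1)]
    exact dvd_mul_right _ _
  exact mem_subgroupOf.mp ((QuotientGroup.eq_one_iff (N := (K N).subgroupOf N) ⟨g, hg⟩).mp
    (orderOf_eq_one_iff.mp (Nat.eq_one_of_dvd_coprimes hco h1 h2)))

theorem exists_compl (N : Subgroup S) : ∃ L, Compl N L := by
  obtain ⟨hKN, hnK, -⟩ := h.K_facts N
  haveI : ((K N).subgroupOf N).Normal := (normal_subgroupOf_iff_le_normalizer hKN).mpr hnK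
  obtain ⟨L₀, hL₀⟩ := exists_right_complement'_of_coprime (N := (K N).subgroupOf N) (by
    rw [Basics.card_subgroupOf hKN]; exact h.coprime_K N)
  refine ⟨L₀.map N.subtype, map_subtype_le _, ?_, ?_⟩
  · rw [← map_subgroupOf_eq_of_le hKN, ← map_inf _ _ _ N.subtype_injective,
      hL₀.disjoint.eq_bot, Subgroup.map_bot]
  · rw [← map_subgroupOf_eq_of_le hKN, ← Subgroup.map_sup, hL₀.sup_eq_top, ← MonoidHom.range_eq_map,
      range_subtype]

theorem compl_prime {N L : Subgroup S} (hL : Compl N L) {r : ℕ} {z : S} (hr : r.Prime)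
    (hz : orderOf z = r) (hzL : z ∈ L) : r ∉ pi N := fun hpi => by
  have : z ∈ K N ⊓ L := ⟨h.mem_K_of (hL.1 hzL) fun q hq hd =>
    ((Nat.prime_dvd_prime_iff_eq hq hr).mp (hz ▸ hd)) ▸ hpi, hzL⟩
  rw [hL.2.1, mem_bot] at this
  exact ne_one_of_orderOf hr hz this

theorem pi_of_good {N : Subgroup S} {p : ℕ} (hp : p.Prime) {x : S} (hx : Good p x) (hN : IsCoatom N)
    (hxN : x ∈ N) : p ∈ pi N := by
  haveI := Fact.mk hp
  obtain ⟨i, hi⟩ := (IsPGroup.iff_orderOf.mp (h.pgroup hx)) ⟨x, mem_zpowers x⟩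
  rw [← Subgroup.orderOf_coe] at hi
  have hdvd : p ∣ orderOf x := by
    rcases i with _ | i
    · exact absurd (orderOf_eq_one_iff.mp (by simpa using hi)) (h.ne_one hx)
    · exact hi ▸ dvd_pow_self p i.succ_ne_zero
  obtain ⟨z, hz, hzo⟩ := exists_power_orderOf x hdvd
  exact ⟨hp, z, hzo, h.own_same hp (h.pgroup hx) (mem_zpowers x) hz (h.ne_one hx)
    (ne_one_of_orderOf hp hzo) (h.own_of_good hp hx hN hxN)⟩

theorem compl_noGood {N L : Subgroup S} (hN : IsCoatom N) (hL : Compl N L) :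
    ∀ p x, p.Prime → Good p x → x ∉ L := fun p x hp hx hxL => by
  have hpi := h.pi_of_good hp hx hN (hL.1 hxL)
  have : x ∈ K N ⊓ L := ⟨h.mem_K_of (hL.1 hxL) fun q hq hd => by
    haveI := Fact.mk hp
    obtain ⟨i, hi⟩ := (IsPGroup.iff_orderOf.mp (h.pgroup hx)) ⟨x, mem_zpowers x⟩
    rw [← Subgroup.orderOf_coe] at hi
    rw [hi] at hd
    exact ((Nat.prime_dvd_prime_iff_eq hq hp).mp (hq.dvd_of_dvd_pow hd)) ▸ hpi, hxL⟩
  rw [hL.2.1, mem_bot] at this
  exact h.ne_one hx this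

theorem inter_noGood {X Y : Subgroup S} (hX : IsCoatom X) (hY : IsCoatom Y) (hne : X ≠ Y) :
    ∀ p x, p.Prime → Good p x → x ∉ X ⊓ Y := fun _ _ hp hx hxm =>
  hne (h.coatom_unique hp hx hX hY hxm.1 hxm.2)

theorem compl_ne_bot {N L : Subgroup S} (hN : IsCoatom N) (hL : Compl N L) {u : S} (hu : u ≠ 1)
    (huN : u ∈ N) : L ≠ ⊥ := by
  rintro rfl
  have hKN : K N = N := (sup_bot_eq (K N)).symm.trans hL.2.2
  have hlcs : ∀ j, (⊤ : Subgroup N).lowerCentralSeries j = ⊤ := by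
    intro j
    refine Basics.eq_top_of_sylow_le _ fun q hq hd => ?_
    have hqi : q ∈ pi N := (h.K_facts N).2.2 q hq.out (hKN.symm ▸ hd)
    obtain ⟨_, P, hPN, -, hlcs, -, -⟩ := h.sylow_facts hqi
    refine ⟨P.subtype hPN, fun a ha => ?_⟩
    have := hlcs j (show (a : S) ∈ (P : Subgroup S) from ha)
    rw [← Subgroup.top_subtype_lowerCentralSeries] at this
    obtain ⟨b, hb, hbe⟩ := this
    exact Subtype.ext hbe ▸ hb
  have hNn : Group.IsNilpotent N := by
    have := h.proper N hN.1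
    rwa [show N.lowerCentralSeries k = N by
      rw [← Subgroup.top_subtype_lowerCentralSeries, hlcs k, ← MonoidHom.range_eq_map, range_subtype]]
      at this
  obtain ⟨j, hj⟩ := Subgroup.nilpotent_iff_lowerCentralSeries.mp hNn
  rw [hlcs j] at hj
  have h9 : (⟨u, huN⟩ : N) ∈ (⊥ : Subgroup N) := hj ▸ mem_top _
  exact hu (congrArg Subtype.val (mem_bot.mp h9))

/-- A complement lies in the maximal subgroup of each of its elements of prime order. -/
theorem compl_le_own {N L : Subgroup S} (hN : IsCoatom N) (hL : Compl N L) {z : S} {s : ℕ}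
    (hs : s.Prime) (hz : orderOf z = s) (hzL : z ∈ L) {Y : Subgroup S} (hY : Own z Y) : L ≤ Y := by
  haveI := Fact.mk hs
  haveI : Group.IsNilpotent L := (h.frob_of_noGood L (h.compl_noGood hN hL)).isNilpotent
  intro l hl
  obtain ⟨a, b, -, -, hab, ⟨i, ha⟩, hb⟩ := Cfsg.Agent.Transfer.exists_pPart_mul (p := s) (⟨l, hl⟩ : L)
  have hzb : Commute (⟨z, hzL⟩ : L) b := Cfsg.Agent.Transfer.commute_of_coprime_of_nilpotent
    (by rw [Subgroup.orderOf_mk, hz]; exact hb.symm)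
  have hbY : (b : S) ∈ Y := hY.2 (mem_centralizer_singleton_iff.mpr (congrArg Subtype.val hzb.eq).symm)
  have haY : (a : S) ∈ Y := by
    by_cases ha1 : a = 1
    · simp [ha1, Y.one_mem]
    obtain ⟨i', -, hi'⟩ := (Nat.dvd_prime_pow hs).mp ha
    obtain ⟨P, hP⟩ := (IsPGroup.of_card (n := i') (by rw [Nat.card_zpowers, hi']) :
      IsPGroup s (zpowers a)).exists_le_sylow
    obtain ⟨R, hR⟩ := (isPGroup_zpowers_of_orderOf hs
      (show orderOf (⟨z, hzL⟩ : L) = s by rw [Subgroup.orderOf_mk, hz])).exists_le_sylow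
    have hRP : R = P := (Sylow.unique_of_normal P inferInstance).uniq R |>.trans
      ((Sylow.unique_of_normal P inferInstance).uniq P).symm
    subst hRP
    exact mem_of_own (h.own_same hs (Q := (R : Subgroup L).map L.subtype) (R.2.map _)
      ⟨_, hR (mem_zpowers _), rfl⟩ ⟨a, hP (mem_zpowers a), rfl⟩ (ne_one_of_orderOf hs hz)
      (fun he => ha1 (Subtype.ext he)) hY)
  have : l = (a : S) * b := congrArg Subtype.val hab.symm
  rw [this]
  exact Y.mul_mem haY hbY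

/-- The intersection with the maximal subgroup of an element of the complement. -/
theorem inter_eq {N L : Subgroup S} (hN : IsCoatom N) (hL : Compl N L) {z : S} {s : ℕ}
    (hs : s.Prime) (hz : orderOf z = s) (hzL : z ∈ L) {Y : Subgroup S} (hY : Own z Y) :
    N ⊓ Y = (K N ⊓ centralizer (L : Set S)) ⊔ L := by
  obtain ⟨hKN, hnK, -⟩ := h.K_facts N
  have hLY := h.compl_le_own hN hL hs hz hzL hY
  have hne : N ≠ Y := fun he => h.compl_prime hL hs hz hzL ⟨hs, z, hz, he ▸ hY⟩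
  refine le_antisymm ?_ (sup_le (le_inf (inf_le_left.trans hKN) ?_) (le_inf hL.1 hLY))
  · rintro g ⟨hgN, hgY⟩
    have hg : g ∈ K N ⊔ L := hL.2.2.symm ▸ hgN
    obtain ⟨a, ha, l, hl, rfl⟩ := (Basics.mem_sup_of_le_normalizer (hL.1.trans hnK)).mp hg
    have haY : a ∈ Y := (Y.mul_mem_cancel_right (hLY hl)).mp hgY
    haveI : Group.IsNilpotent ↥(N ⊓ Y) :=
      (h.frob_of_noGood _ (h.inter_noGood hN hY.1 hne)).isNilpotent
    refine mul_mem (mem_sup_left ⟨ha, mem_centralizer_iff.mpr fun b hb => ?_⟩) (mem_sup_right hl)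
    refine congrArg Subtype.val (Cfsg.Agent.Transfer.commute_of_coprime_of_nilpotent
      (G := ↥(N ⊓ Y)) (x := ⟨b, hL.1 hb, hLY hb⟩) (y := ⟨a, hKN ha, haY⟩) ?_).eq
    rw [← Subgroup.orderOf_coe, ← Subgroup.orderOf_coe]
    show (orderOf b).Coprime (orderOf a)
    refine Nat.coprime_of_dvd fun r hr hd hd2 => ?_
    obtain ⟨v, hv, hvo⟩ := exists_power_orderOf b hd
    exact h.compl_prime hL hr hvo (zpowers_le.mpr hb hv)
      ((h.K_facts N).2.2 r hr (hd2.trans (orderOf_dvd_natCard _ ha)))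
  · refine inf_le_right.trans (le_trans ?_ hY.2)
    exact centralizer_le (Set.singleton_subset_iff.mpr hzL)

theorem mem_compl_of {N L : Subgroup S} (hL : Compl N L) {r : ℕ} (hr : r.Prime) {v : S}
    (hv : orderOf v = r) (hvD : v ∈ (K N ⊓ centralizer (L : Set S)) ⊔ L) (hpi : r ∉ pi N) : v ∈ L := by
  have hn : L ≤ normalizer ((K N ⊓ centralizer (L : Set S) : Subgroup S) : Set S) := by
    intro l hl
    rw [mem_normalizer_iff]
    intro y
    refine ⟨fun hy => ?_, fun hy => ?_⟩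
    · rwa [(mem_centralizer_iff.mp hy.2 l hl), mul_inv_cancel_right]
    · have : y = l⁻¹ * (l * y * l⁻¹) * l := by simp [mul_assoc]
      rw [this, (mem_centralizer_iff.mp hy.2 l⁻¹ (L.inv_mem hl))]
      simpa [mul_assoc] using hy
  obtain ⟨t, ht, l, hl, rfl⟩ := (Basics.mem_sup_of_le_normalizer hn).mp hvD
  have hc : Commute t l := (mem_centralizer_iff.mp ht.2 l hl).symm
  have h1 : (t * l) ^ r = 1 := by rw [← hv]; exact pow_orderOf_eq_one _
  rw [hc.mul_pow] at h1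
  have h2 : t ^ r = 1 := by
    have hm : t ^ r ∈ K N ⊓ L :=
      ⟨(K N).pow_mem ht.1 r, (eq_inv_of_mul_eq_one_left h1) ▸ L.inv_mem (L.pow_mem hl r)⟩
    rwa [hL.2.1, mem_bot] at hm
  have h3 : t = 1 := by
    rcases (Nat.dvd_prime hr).mp (orderOf_dvd_of_pow_eq_one h2) with h4 | h4
    · exact orderOf_eq_one_iff.mp h4
    · exact absurd ((h.K_facts N).2.2 r hr (h4 ▸ orderOf_dvd_natCard _ ht.1)) hpi
  rwa [h3, one_mul]

/-- The complement of a neighbour can be chosen inside the common part. -/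
theorem exists_compl_le {N L : Subgroup S} (hL : Compl N L) {q : ℕ}
    (hqN : q ∈ pi N) {u : S} (hu : orderOf u = q) (huN : Own u N) {Y : Subgroup S} (hYc : IsCoatom Y)
    (hne : N ≠ Y) (huY : u ∈ Y) :
    ∃ L', Compl Y L' ∧ ∃ z ∈ L', orderOf z = q ∧ Own z N ∧ L' ≤ N := by
  haveI := Fact.mk hqN.1
  have hu1 := ne_one_of_orderOf hqN.1 hu
  have hup := isPGroup_zpowers_of_orderOf hqN.1 hu
  have hqY : q ∉ pi Y := fun hq => hne (h.own_unique hqN.1 hup hu1 huN (h.own_of_pi hq hu huY))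
  obtain ⟨L₁, hL₁⟩ := h.exists_compl Y
  obtain ⟨hKY, hnK, hKp⟩ := h.K_facts Y
  have hcard : Nat.card (K Y) * Nat.card L₁ = Nat.card Y := by
    have := Basics.card_mul_card_eq_card_sup_mul_card_inf (hL₁.1.trans hnK)
    rwa [hL₁.2.2, hL₁.2.1, card_bot, mul_one] at this
  have hqd : q ∣ Nat.card L₁ := by
    have h1 : q ∣ Nat.card (K Y) * Nat.card L₁ := hcard ▸ hu ▸ orderOf_dvd_natCard Y huY
    exact (hqN.1.dvd_mul.mp h1).resolve_left fun h2 => hqY (hKp q hqN.1 h2)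
  obtain ⟨⟨z, hzL⟩, hz⟩ := exists_prime_orderOf_dvd_card' q hqd
  rw [Subgroup.orderOf_mk] at hz
  obtain ⟨P, hP⟩ := (isPGroup_zpowers_of_orderOf hqN.1
    (show orderOf (⟨u, huY⟩ : Y) = q by rw [Subgroup.orderOf_mk, hu])).exists_le_sylow
  obtain ⟨R, hR⟩ := (isPGroup_zpowers_of_orderOf hqN.1
    (show orderOf (⟨z, hL₁.1 hzL⟩ : Y) = q by rw [Subgroup.orderOf_mk, hz])).exists_le_sylow
  obtain ⟨n, hn⟩ := MulAction.exists_smul_eq Y R P
  have hcj : MulAut.conj (n : S) • Y = Y :=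
    Basics.conj_smul_eq_self_iff.mpr (le_normalizer n.2)
  have hcjK : MulAut.conj (n : S) • K Y = K Y :=
    Basics.conj_smul_eq_self_iff.mpr (hnK n.2)
  have hL' : Compl Y (MulAut.conj (n : S) • L₁) := by
    refine ⟨?_, ?_, ?_⟩
    · calc MulAut.conj (n : S) • L₁ ≤ MulAut.conj (n : S) • Y := pointwise_smul_le_pointwise_smul_iff.mpr hL₁.1
        _ = Y := hcj
    · conv_lhs => rw [← hcjK]
      rw [← smul_inf, hL₁.2.1]
      exact Subgroup.map_bot _
    · conv_lhs => rw [← hcjK]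
      rw [← smul_sup, hL₁.2.2, hcj]
  have hz' : orderOf ((n : S) * z * (n : S)⁻¹) = q := by
    rw [show (n : S) * z * (n : S)⁻¹ = MulAut.conj (n : S) z from rfl, MulEquiv.orderOf_eq, hz]
  have hz'L : (n : S) * z * (n : S)⁻¹ ∈ MulAut.conj (n : S) • L₁ := Basics.conj_mem_conj_smul hzL
  have hz'N : Own ((n : S) * z * (n : S)⁻¹) N := by
    have h1 : (n * ⟨z, hL₁.1 hzL⟩ * n⁻¹ : Y) ∈ (P : Subgroup Y) := by
      rw [← hn, Sylow.coe_subgroup_smul]
      exact Basics.conj_mem_conj_smul (hR (mem_zpowers _))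
    exact h.own_same hqN.1 (Q := (P : Subgroup Y).map Y.subtype) (P.2.map _)
      ⟨_, hP (mem_zpowers _), rfl⟩ ⟨_, h1, rfl⟩ hu1 (ne_one_of_orderOf hqN.1 hz') huN
  exact ⟨_, hL', _, hz'L, hz', hz'N, h.compl_le_own hYc hL' hqN.1 hz' hz'L hz'N⟩

/-- There is no such group. -/
theorem contradiction : False := by
  classical
  haveI := h.simple
  obtain ⟨p, hp, hpS⟩ := Nat.exists_prime_and_dvd (Finite.one_lt_card (α := S)).ne'
  haveI := Fact.mk hp
  obtain ⟨u₀, hu₀⟩ := exists_prime_orderOf_dvd_card' p hpS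
  obtain ⟨N₀, hN₀⟩ := h.exists_own (ne_one_of_orderOf hp hu₀)
  obtain ⟨L₀, hL₀⟩ := h.exists_compl N₀
  obtain ⟨q, hq, hqL⟩ := Nat.exists_prime_and_dvd (n := Nat.card L₀) fun h1 =>
    h.compl_ne_bot hN₀.1 hL₀ (ne_one_of_orderOf hp hu₀) (mem_of_own hN₀) (eq_bot_of_card_eq _ h1)
  haveI := Fact.mk hq
  obtain ⟨⟨z₀, hz₀L⟩, hz₀⟩ := exists_prime_orderOf_dvd_card' q hqL
  rw [Subgroup.orderOf_mk] at hz₀
  obtain ⟨N, hN⟩ := h.exists_own (ne_one_of_orderOf hq hz₀)
  obtain ⟨L, hL⟩ := h.exists_compl N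
  obtain ⟨s, hs, hsL⟩ := Nat.exists_prime_and_dvd (n := Nat.card L) fun h1 =>
    h.compl_ne_bot hN.1 hL (ne_one_of_orderOf hq hz₀) (mem_of_own hN) (eq_bot_of_card_eq _ h1)
  haveI := Fact.mk hs
  obtain ⟨⟨z, hzL⟩, hz⟩ := exists_prime_orderOf_dvd_card' s hsL
  rw [Subgroup.orderOf_mk] at hz
  obtain ⟨M, hM⟩ := h.exists_own (ne_one_of_orderOf hs hz)
  have hqN : q ∈ pi N := ⟨hq, z₀, hz₀, hN⟩
  have hqN₀ : q ∉ pi N₀ := h.compl_prime hL₀ hq hz₀ hz₀L
  -- a common element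
  obtain ⟨_, P, hPN, hnP, -, hall, -⟩ := h.sylow_facts hqN
  have hz₀P : z₀ ∈ (P : Subgroup S) := by
    have := P.2.to_sup_of_normal_left' (isPGroup_zpowers_of_orderOf hq hz₀)
      ((zpowers_le.mpr (mem_of_own hN)).trans hnP)
    exact P.3 this le_sup_left ▸ mem_sup_right (mem_zpowers z₀)
  obtain ⟨w, hwP, hwz, hw1⟩ : ∃ w ∈ (P : Subgroup S), Commute w z ∧ w ≠ 1 := by
    by_contra! hall'
    obtain ⟨v, hv, hve⟩ := exists_it_eq (hnP (hL.1 hzL)) hall' k z₀ hz₀P
    have hg : Good q z₀ := hve ▸ h.iter hq _ P.2 (hnP (hL.1 hzL)) hv (hve ▸ ne_one_of_orderOf hq hz₀)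
    exact hqN₀ (h.pi_of_good hq hg hN₀.1 (hL₀.1 hz₀L))
  obtain ⟨i, hi⟩ := (IsPGroup.iff_orderOf.mp P.2) ⟨w, hwP⟩
  rw [← Subgroup.orderOf_coe] at hi
  have hqw : q ∣ orderOf w := by
    rcases i with _ | i
    · exact absurd (orderOf_eq_one_iff.mp (by simpa using hi)) hw1
    · exact hi ▸ dvd_pow_self q i.succ_ne_zero
  obtain ⟨u, huw, hu⟩ := exists_power_orderOf w hqw
  have huN : Own u N := hall u (zpowers_le.mpr hwP huw) (ne_one_of_orderOf hq hu)
  have huM : u ∈ M := hM.2 (zpowers_le.mpr (mem_centralizer_singleton_iff.mpr hwz.eq) huw)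
  have hNM : N ≠ M := fun he => h.compl_prime hL hs hz hzL ⟨hs, z, hz, he ▸ hM⟩
  obtain ⟨hKN, hnK, -⟩ := h.K_facts N
  set D := N ⊓ M with hD
  have hDN : D = (K N ⊓ centralizer (L : Set S)) ⊔ L := h.inter_eq hN.1 hL hs hz hzL hM
  obtain ⟨LM, hLM, z', hz'L, hz', hz'N, hLMN⟩ := h.exists_compl_le hL hqN hu huN hM.1 hNM huM
  -- the family of neighbours
  set 𝓜 := {X : Subgroup S | IsCoatom X ∧ ∃ (r : ℕ) (v : S), r.Prime ∧ v ∈ D ∧ orderOf v = r ∧ Own v X}
  have hub : ∀ X ∈ 𝓜, ∃ LX, Compl X LX ∧ LX ≤ D ∧ D = (K X ⊓ centralizer (LX : Set S)) ⊔ LX := by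
    rintro X ⟨hXc, r, v, hr, hvD, hv, hvX⟩
    by_cases hXN : X = N
    · subst hXN
      exact ⟨L, hL, hDN ▸ le_sup_right, hDN⟩
    have hrN : r ∉ pi N := fun hrN => hXN (h.own_unique hr (isPGroup_zpowers_of_orderOf hr hv)
      (ne_one_of_orderOf hr hv) hvX (h.own_of_pi hrN hv (hvD.1)))
    have hvL : v ∈ L := h.mem_compl_of hL hr hv (hDN ▸ hvD) hrN
    have hNX : N ⊓ X = D := (h.inter_eq hN.1 hL hr hv hvL hvX).trans hDN.symm
    have huX : u ∈ X := (hNX.ge ⟨mem_of_own huN, huM⟩).2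
    obtain ⟨LX, hLX, z'', hz''L, hz'', hz''N, hLXN⟩ :=
      h.exists_compl_le hL hqN hu huN hXc (Ne.symm hXN) huX
    refine ⟨LX, hLX, hNX ▸ le_inf hLXN hLX.1, ?_⟩
    rw [← hNX, inf_comm]
    exact h.inter_eq hXc hLX hq hz'' hz''L hz''N
  have hDle : ∀ X ∈ 𝓜, D ≤ X := fun X hX => by
    obtain ⟨LX, hLX, hle, he⟩ := hub X hX
    rw [he]
    exact sup_le (inf_le_left.trans (h.K_facts X).1) hLX.1
  have hmeet : ∀ X ∈ 𝓜, ∀ Y ∈ 𝓜, X ≠ Y → X ⊓ Y = D := by
    intro X hX Y hY hXY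
    obtain ⟨LX, hLX, hle, he⟩ := hub X hX
    obtain ⟨hYc, r, v, hr, hvD, hv, hvY⟩ := hY
    have hrX : r ∉ pi X := fun hrX => hXY (h.own_unique hr (isPGroup_zpowers_of_orderOf hr hv)
      (ne_one_of_orderOf hr hv) (h.own_of_pi hrX hv (hDle X hX hvD)) hvY)
    exact (h.inter_eq hX.1 hLX hr hv (h.mem_compl_of hLX hr hv (he ▸ hvD) hrX) hvY).trans he.symm
  -- a prime of an element of `D` belongs to a neighbour
  have hprime : ∀ d ∈ D, ∀ r : ℕ, r.Prime → r ∣ orderOf d →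
      ∃ v ∈ zpowers d, ∃ X ∈ 𝓜, orderOf v = r ∧ Own v X ∧ r ∈ pi X := by
    intro d hd r hr hrd
    obtain ⟨v, hv, hvo⟩ := exists_power_orderOf d hrd
    obtain ⟨X, hX⟩ := h.exists_own (ne_one_of_orderOf hr hvo)
    exact ⟨v, hv, X, ⟨hX.1, r, v, hr, zpowers_le.mpr hd hv, hvo, hX⟩, hvo, hX, hr, v, hvo, hX⟩
  have hconj : ∀ (X : Subgroup S) (r : ℕ), r ∈ pi X → ∀ (g v : S), orderOf v = r → v ∈ X →
      g * v * g⁻¹ ∈ X → g ∈ X := fun X r hr g v hv hvX hgv =>
    h.mem_of_conj_own hr.1 (isPGroup_zpowers_of_orderOf hr.1 hv) (ne_one_of_orderOf hr.1 hv)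
      (h.own_of_pi hr hv hvX) (h.own_of_pi hr (by
        rw [show g * v * g⁻¹ = MulAut.conj g v from rfl, MulEquiv.orderOf_eq, hv]) hgv)
  let Imp := {d : S // d ∈ D ∧ d ≠ 1 ∧ ∀ X ∈ 𝓜, d ∉ K X}
  let Pure := fun X : 𝓜 => {a : S // a ∈ K X.1 ∧ a ≠ 1}
  haveI := Fintype.ofFinite 𝓜
  let F : (Σ X : 𝓜, (S ⧸ X.1) × Pure X) ⊕ ((S ⧸ D) × Imp) → {a : S // a ≠ 1} :=
    Sum.elim (fun x => ⟨x.2.1.out * x.2.2.1 * x.2.1.out⁻¹, by simpa using x.2.2.2.2⟩)
      (fun x => ⟨x.1.out * x.2.1 * x.1.out⁻¹, by simpa using x.2.2.2.1⟩)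
  have hpowconj : ∀ {a b g : S} {v : S}, g * a * g⁻¹ = b → v ∈ zpowers a → g * v * g⁻¹ ∈ zpowers b := by
    intro a b g v hab hv
    obtain ⟨j, rfl⟩ := mem_zpowers_iff.mp hv
    exact mem_zpowers_iff.mpr ⟨j, by rw [← hab, conj_zpow]⟩
  -- pure against pure
  have hpp : ∀ (X Y : 𝓜) (g : S) (a : Pure X) (b : Pure Y), g * a.1 * g⁻¹ = b.1 → X = Y ∧ g ∈ X.1 := by
    rintro X Y g ⟨a, haK, ha1⟩ ⟨b, hbK, hb1⟩ hab
    obtain ⟨r, hr, hra⟩ := Nat.exists_prime_and_dvd (n := orderOf a) (mt orderOf_eq_one_iff.mp ha1)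
    obtain ⟨v, hv, hvo⟩ := exists_power_orderOf a hra
    have hrX : r ∈ pi X.1 := (h.K_facts X.1).2.2 r hr (hra.trans (orderOf_dvd_natCard _ haK))
    have hv' : g * v * g⁻¹ ∈ zpowers b := hpowconj hab hv
    have hv'o : orderOf (g * v * g⁻¹) = r := by
      rw [show g * v * g⁻¹ = MulAut.conj g v from rfl, MulEquiv.orderOf_eq, hvo]
    have hrY : r ∈ pi Y.1 := (h.K_facts Y.1).2.2 r hr
      (hv'o ▸ orderOf_dvd_natCard _ (zpowers_le.mpr hbK hv'))
    obtain ⟨hXc, r', x, hr', hxD, hx, hxX⟩ := X.2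
    -- `Y` is the conjugate of `X`, and both contain `x`
    have hYg : Y.1 = MulAut.conj g • X.1 :=
      h.own_unique hr (isPGroup_zpowers_of_orderOf hr hv'o) (ne_one_of_orderOf hr hv'o)
        (h.own_of_pi hrY hv'o ((h.K_facts Y.1).1 (zpowers_le.mpr hbK hv')))
        (own_conj (h.own_of_pi hrX hvo ((h.K_facts X.1).1 (zpowers_le.mpr haK hv))) g)
    have hxY : Own x Y.1 := by
      refine h.own_of_pi ⟨hr', g * x * g⁻¹, ?_, hYg ▸ own_conj hxX g⟩ hx (hDle Y.1 Y.2 hxD)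
      rw [show g * x * g⁻¹ = MulAut.conj g x from rfl, MulEquiv.orderOf_eq, hx]
    have hXY : X = Y := Subtype.ext (h.own_unique hr' (isPGroup_zpowers_of_orderOf hr' hx)
      (ne_one_of_orderOf hr' hx) hxX hxY)
    subst hXY
    exact ⟨rfl, hconj _ r hrX g v hvo ((h.K_facts X.1).1 (zpowers_le.mpr haK hv))
      ((h.K_facts X.1).1 (zpowers_le.mpr hbK hv'))⟩
  -- pure against impure
  have hpi' : ∀ (X : 𝓜) (g : S) (a : Pure X) (d : Imp), g * a.1 * g⁻¹ ≠ d.1 := by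
    rintro X g ⟨a, haK, ha1⟩ ⟨d, hdD, hd1, hdK⟩ hab
    refine hdK X.1 X.2 (h.mem_K_of (hDle X.1 X.2 hdD) fun r hr hd => (h.K_facts X.1).2.2 r hr ?_)
    have ho : orderOf d = orderOf a := by
      simp only at hab
      subst hab; exact MulEquiv.orderOf_eq (MulAut.conj g) a
    exact (ho ▸ hd).trans (orderOf_dvd_natCard _ haK)
  -- impure against impure
  have hii : ∀ (g : S) (d e : Imp), g * d.1 * g⁻¹ = e.1 → g ∈ D := by
    rintro g ⟨d, hdD, hd1, hdK⟩ ⟨e, heD, _, _⟩ hde'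
    have hkey : ∀ (r : ℕ) (v : S) (X : Subgroup S), X ∈ 𝓜 → r ∈ pi X → v ∈ zpowers d →
        orderOf v = r → g ∈ X := fun r v X hX hr hv hvo =>
      hconj X r hr g v hvo (hDle X hX (zpowers_le.mpr hdD hv))
        (hDle X hX (zpowers_le.mpr heD (hpowconj hde' hv)))
    obtain ⟨r, hr, hrd⟩ := Nat.exists_prime_and_dvd (n := orderOf d) (mt orderOf_eq_one_iff.mp hd1)
    obtain ⟨v, hv, X, hX, hvo, -, hrX⟩ := hprime d hdD r hr hrd
    obtain ⟨r', hr', hrd', hr'X⟩ : ∃ r', r'.Prime ∧ r' ∣ orderOf d ∧ r' ∉ pi X := by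
      by_contra! hall'
      exact hdK X hX (h.mem_K_of (hDle X hX hdD) hall')
    obtain ⟨v', hv', Y, hY, hv'o, -, hrY⟩ := hprime d hdD r' hr' hrd'
    have hXY : X ≠ Y := fun he => hr'X (he ▸ hrY)
    rw [← hmeet X hX Y hY hXY]
    exact ⟨hkey r v X hX hrX hv hvo, hkey r' v' Y hY hrY hv' hv'o⟩
  have hF : Function.Injective F := by
    rintro (⟨X, c, a⟩ | ⟨c, d⟩) (⟨Y, c', b⟩ | ⟨c', e⟩) he <;>
      simp only [F, Sum.elim_inl, Sum.elim_inr, Subtype.mk.injEq] at he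
    · have h1 : (c'.out⁻¹ * c.out) * a.1 * (c'.out⁻¹ * c.out)⁻¹ = b.1 := by
        calc _ = c'.out⁻¹ * (c.out * a.1 * c.out⁻¹) * c'.out := by simp [mul_assoc]
          _ = _ := by rw [he]; simp [mul_assoc]
      obtain ⟨hXY, hm⟩ := hpp X Y _ a b h1
      subst hXY
      have hc : c = c' := by
        rw [← c.out_eq', ← c'.out_eq']
        exact (QuotientGroup.eq.mpr hm).symm
      subst hc
      have ha : a = b := Subtype.ext (by simpa using h1)
      rw [ha]
    · refine absurd (?_ : (c'.out⁻¹ * c.out) * a.1 * (c'.out⁻¹ * c.out)⁻¹ = e.1) (hpi' X _ a e)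
      calc _ = c'.out⁻¹ * (c.out * a.1 * c.out⁻¹) * c'.out := by simp [mul_assoc]
        _ = _ := by rw [he]; simp [mul_assoc]
    · refine absurd (?_ : (c.out⁻¹ * c'.out) * b.1 * (c.out⁻¹ * c'.out)⁻¹ = d.1) (hpi' Y _ b d)
      calc _ = c.out⁻¹ * (c'.out * b.1 * c'.out⁻¹) * c.out := by simp [mul_assoc]
        _ = _ := by rw [← he]; simp [mul_assoc]
    · have h1 : (c'.out⁻¹ * c.out) * d.1 * (c'.out⁻¹ * c.out)⁻¹ = e.1 := by
        calc _ = c'.out⁻¹ * (c.out * d.1 * c.out⁻¹) * c'.out := by simp [mul_assoc]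
          _ = _ := by rw [he]; simp [mul_assoc]
      have hc : c = c' := by
        rw [← c.out_eq', ← c'.out_eq']
        exact (QuotientGroup.eq.mpr (hii _ d e h1)).symm
      subst hc
      have hd : d = e := Subtype.ext (by simpa using h1)
      rw [hd]
  -- counting
  have hne1 : Nat.card {a : S // a ≠ 1} + 1 = Nat.card S := by
    haveI := Fintype.ofFinite S
    rw [Nat.card_eq_fintype_card, Nat.card_eq_fintype_card, Fintype.card_subtype_compl,
      Fintype.card_subtype_eq, Nat.sub_add_cancel Fintype.card_pos]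
  have hpure : ∀ X : 𝓜, Nat.card (Pure X) + 1 = Nat.card (K X.1) := by
    intro X
    haveI := Fintype.ofFinite (K X.1)
    have h1 : Nat.card (Pure X) = Nat.card {a : K X.1 // a ≠ 1} := Nat.card_congr
      { toFun := fun a => ⟨⟨a.1, a.2.1⟩, fun he => a.2.2 (congrArg Subtype.val he)⟩
        invFun := fun a => ⟨a.1.1, a.1.2, fun he => a.2 (Subtype.ext he)⟩
        left_inv := fun _ => rfl
        right_inv := fun _ => rfl }
    rw [h1, Nat.card_eq_fintype_card, Nat.card_eq_fintype_card, Fintype.card_subtype_compl,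
      Fintype.card_subtype_eq, Nat.sub_add_cancel Fintype.card_pos]
  have hrel : ∀ X : 𝓜, X.1.index * Nat.card (K X.1) = D.index * Nat.card ↥(K X.1 ⊓ D) := by
    intro X
    obtain ⟨LX, hLX, hle, he⟩ := hub X.1 X.2
    have h1 := Basics.card_mul_card_eq_card_sup_mul_card_inf
      ((hDle X.1 X.2).trans (h.K_facts X.1).2.1)
    have hsup : K X.1 ⊔ D = X.1 := le_antisymm (sup_le (h.K_facts X.1).1 (hDle X.1 X.2))
      (hLX.2.2.ge.trans (sup_le_sup_left hle _))
    rw [hsup] at h1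
    refine Nat.eq_of_mul_eq_mul_right (Nat.card_pos (α := D)) ?_
    calc X.1.index * Nat.card (K X.1) * Nat.card D = X.1.index * (Nat.card X.1 * Nat.card ↥(K X.1 ⊓ D)) := by
          rw [mul_assoc, h1]
      _ = Nat.card S * Nat.card ↥(K X.1 ⊓ D) := by rw [← mul_assoc, mul_comm X.1.index, card_mul_index]
      _ = D.index * Nat.card ↥(K X.1 ⊓ D) * Nat.card D := by rw [← card_mul_index D]; ring
  have hhalf : ∀ X : 𝓜, 2 * X.1.index ≤ D.index := by
    intro X
    rw [← relIndex_mul_index (hDle X.1 X.2)]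
    refine Nat.mul_le_mul_right _ ?_
    have h0 : D.relIndex X.1 ≠ 0 := FiniteIndex.index_ne_zero
    have h1 : D.relIndex X.1 ≠ 1 := fun h1 => by
      obtain ⟨hXc, r, v, hr, hvD, hv, hvX⟩ := X.2
      obtain ⟨_, R, hR, x, hx, hgx⟩ := h.sylow_le_K (⟨hr, v, hv, hvX⟩ : r ∈ pi X.1)
      have hxX : x ∈ D := relIndex_eq_one.mp h1 ((h.K_facts X.1).1 (hR hx))
      exact h.inter_noGood hN.1 hM.1 hNM r x hr hgx hxX
    omega
  have hDcard : Nat.card D + Fintype.card 𝓜 ≤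
      1 + Nat.card Imp + ∑ X : 𝓜, Nat.card ↥(K X.1 ⊓ D) := by
    let T := fun X : 𝓜 => {a : S // a ∈ K X.1 ⊓ D ∧ a ≠ 1}
    have hT : ∀ X : 𝓜, Nat.card (T X) + 1 = Nat.card ↥(K X.1 ⊓ D) := by
      intro X
      haveI := Fintype.ofFinite ↥(K X.1 ⊓ D)
      have h1 : Nat.card (T X) = Nat.card {a : ↥(K X.1 ⊓ D) // a ≠ 1} := Nat.card_congr
        { toFun := fun a => ⟨⟨a.1, a.2.1⟩, fun he => a.2.2 (congrArg Subtype.val he)⟩
          invFun := fun a => ⟨a.1.1, a.1.2, fun he => a.2 (Subtype.ext he)⟩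
          left_inv := fun _ => rfl
          right_inv := fun _ => rfl }
      rw [h1, Nat.card_eq_fintype_card, Nat.card_eq_fintype_card, Fintype.card_subtype_compl,
        Fintype.card_subtype_eq, Nat.sub_add_cancel Fintype.card_pos]
    let φ : Unit ⊕ Imp ⊕ (Σ X : 𝓜, T X) → D :=
      Sum.elim (fun _ => 1) (Sum.elim (fun d => ⟨d.1, d.2.1⟩) (fun x => ⟨x.2.1, x.2.2.1.2⟩))
    have hφ : Function.Surjective φ := by
      rintro ⟨d, hd⟩
      by_cases hd1 : d = 1
      · exact ⟨Sum.inl (), Subtype.ext hd1.symm⟩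
      by_cases hK : ∃ X ∈ 𝓜, d ∈ K X
      · obtain ⟨X, hX, hdX⟩ := hK
        exact ⟨Sum.inr (Sum.inr ⟨⟨X, hX⟩, ⟨d, ⟨hdX, hd⟩, hd1⟩⟩), rfl⟩
      · push Not at hK
        exact ⟨Sum.inr (Sum.inl ⟨d, hd, hd1, hK⟩), rfl⟩
    have h1 := Nat.card_le_card_of_surjective φ hφ
    rw [Nat.card_sum, Nat.card_sum, Nat.card_sigma, Nat.card_unique (α := Unit)] at h1
    calc Nat.card D + Fintype.card 𝓜 ≤ 1 + (Nat.card Imp + ∑ X : 𝓜, Nat.card (T X)) + Fintype.card 𝓜 :=
          Nat.add_le_add_right h1 _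
      _ = 1 + Nat.card Imp + ∑ X : 𝓜, (Nat.card (T X) + 1) := by
          rw [Finset.sum_add_distrib, Finset.sum_const, Finset.card_univ, smul_eq_mul, mul_one]; ring
      _ = _ := by simp only [hT]
  have htot : ∑ X : 𝓜, X.1.index * Nat.card (Pure X) + D.index * Nat.card Imp + 1 ≤ Nat.card S := by
    rw [← hne1]
    refine Nat.add_le_add_right ?_ 1
    have h1 := Nat.card_le_card_of_injective F hF
    rw [Nat.card_sum, Nat.card_sigma, Nat.card_prod, ← index_eq_card] at h1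
    simpa only [Nat.card_prod, ← index_eq_card] using h1
  have hn2 : 2 ≤ Fintype.card 𝓜 := by
    have hNmem : N ∈ 𝓜 := ⟨hN.1, q, u, hq, ⟨mem_of_own huN, huM⟩, hu, huN⟩
    have hMmem : M ∈ 𝓜 := ⟨hM.1, s, z, hs, ⟨hL.1 hzL, mem_of_own hM⟩, hz, hM⟩
    exact Fintype.one_lt_card_iff.mpr ⟨⟨N, hNmem⟩, ⟨M, hMmem⟩, fun he => hNM (congrArg Subtype.val he)⟩
  have hsum : ∑ X : 𝓜, X.1.index * Nat.card (Pure X) + ∑ X : 𝓜, X.1.index =
      D.index * ∑ X : 𝓜, Nat.card ↥(K X.1 ⊓ D) := by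
    rw [← Finset.sum_add_distrib, Finset.mul_sum]
    exact Finset.sum_congr rfl fun X _ => by rw [← hrel X, ← hpure X]; ring
  have hsum2 : 2 * ∑ X : 𝓜, X.1.index ≤ Fintype.card 𝓜 * D.index := by
    rw [Finset.mul_sum]
    refine (Finset.sum_le_sum fun X _ => hhalf X).trans ?_
    rw [Finset.sum_const, Finset.card_univ, smul_eq_mul]
  have hcardS : Nat.card S = D.index * Nat.card D := (index_mul_card D).symm
  have hI : 1 ≤ D.index := Nat.pos_of_ne_zero FiniteIndex.index_ne_zero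
  generalize Fintype.card 𝓜 = n at hn2 hsum2 hDcard
  generalize (∑ X : 𝓜, X.1.index * Nat.card (Pure X)) = A at htot hsum
  generalize (∑ X : 𝓜, X.1.index) = B at hsum hsum2
  generalize (∑ X : 𝓜, Nat.card ↥(K X.1 ⊓ D)) = T at hsum hDcard
  rw [hcardS] at htot
  have h5 : D.index * (Nat.card D + n) ≤ D.index * (1 + Nat.card Imp + T) :=
    Nat.mul_le_mul_left _ hDcard
  have h6 : 2 * D.index ≤ n * D.index := Nat.mul_le_mul_right _ hn2
  nlinarith

end Setup

end Cfsg.Agent.ValueSimple
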